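import Groth.Agent.VersalEt.Main

/-!
Formal versality (trivial residue extensions) gives lifting for finite residue extensions.
-/

set_option autoImplicit false
set_option backward.isDefEq.respectTransparency false
set_option linter.style.haveILetI false
set_option maxHeartbeats 1000000

universe u

open CategoryTheory AlgebraicGeometry IsLocalRing

namespace Groth.Agent.VersalFin

open Groth.Agent.VersalEt

/-- Lifting for finite residue extensions from lifting for trivial ones. -/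
theorem lift_finite {S T : Scheme.{u}} (g : T ⟶ S) (t : T)
    (hT : ∀ (C C' : Type u) [CommRing C] [CommRing C'] [IsLocalRing C] [IsLocalRing C'] [IsArtinianRing C]
        [IsArtinianRing C'] (π : C' →+* C), Function.Surjective π →
        ∀ (a : Spec (CommRingCat.of C) ⟶ T) (b : Spec (CommRingCat.of C') ⟶ S),
          a (IsLocalRing.closedPoint C) = t →
          Function.Surjective (a.residueFieldMap (IsLocalRing.closedPoint C)).hom →
          Spec.map (CommRingCat.ofHom π) ≫ b = a ≫ g →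
          ∃ c : Spec (CommRingCat.of C') ⟶ T, Spec.map (CommRingCat.ofHom π) ≫ c = a ∧ c ≫ g = b)
    (C C' : Type u) [CommRing C] [CommRing C'] [IsLocalRing C] [IsLocalRing C'] [IsArtinianRing C]
    [IsArtinianRing C'] (π : C' →+* C) (hπ : Function.Surjective π)
    (a : Spec (CommRingCat.of C) ⟶ T) (b : Spec (CommRingCat.of C') ⟶ S) (hu : a (closedPoint C) = t)
    (ha : (a.residueFieldMap (closedPoint C)).hom.Finite)
    (he : Spec.map (CommRingCat.ofHom π) ≫ b = a ≫ g) :
    ∃ c : Spec (CommRingCat.of C') ⟶ T, Spec.map (CommRingCat.ofHom π) ≫ c = a ∧ c ≫ g = b := by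
  classical
  subst hu
  haveI hπl : IsLocalHom π := IsLocalHom.of_surjective π hπ
  let p := a (closedPoint C)
  let φ : T.presheaf.stalk p →+* C := (Scheme.stalkClosedPointTo a).hom
  haveI : IsLocalHom φ := Scheme.isLocalHom_stalkClosedPointTo' a
  have hφa : Spec.map (CommRingCat.ofHom φ) ≫ T.fromSpecStalk p = a :=
    Scheme.Spec_stalkClosedPointTo_fromSpecStalk a
  let k₀ : Subring (ResidueField C) := ((residue C).comp φ).range
  let S₀ : Subring C := k₀.comap (residue C)
  have hS₀m : ∀ x ∈ maximalIdeal C, x ∈ S₀ := fun x hx => ⟨0, by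
    rw [map_zero, (residue_eq_zero_iff x).2 hx]⟩
  have hS₀inv : ∀ x ∈ S₀, IsUnit x → ∃ y ∈ S₀, x * y = 1 := by
    rintro x ⟨z, hz⟩ hx
    have hzu : IsUnit z := by
      refine (isUnit_map_iff φ z).1 ?_
      have : IsUnit (residue C (φ z)) := by
        rw [show residue C (φ z) = residue C x from hz]; exact hx.map _
      exact (isUnit_map_iff (residue C) _).1 this
    refine ⟨↑hx.unit⁻¹, ⟨↑hzu.unit⁻¹, ?_⟩, hx.mul_val_inv⟩
    refine left_inv_eq_right_inv (a := residue C x) ?_ (by rw [← map_mul, hx.mul_val_inv, map_one])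
    rw [← hz, ← map_mul, hzu.val_inv_mul, map_one]
  obtain ⟨B, hB⟩ : ∃ B : Finset C, ∀ x : C, ∃ c : C → S₀, x - ∑ b ∈ B, (c b : C) * b ∈ maximalIdeal C := by
    let i := AlgebraicGeometry.stalkClosedPointIso (CommRingCat.of C)
    let P := Spec (CommRingCat.of C)
    algebraize [(a.residueFieldMap (closedPoint C)).hom]
    obtain ⟨Y, hY⟩ := (Module.Finite.fg_top :
      (⊤ : Submodule (T.residueField p) (P.residueField (closedPoint C))).FG)
    choose v hv using fun y : {y // y ∈ Y} => Scheme.residue_surjective P (closedPoint C) y.1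
    refine ⟨Finset.univ.image fun y => i.hom.hom (v y), fun x => ?_⟩
    obtain ⟨f, -, hf⟩ := Submodule.mem_span_finset.1
      (show P.residue (closedPoint C) (i.inv.hom x) ∈ Submodule.span (T.residueField p) (Y : Set _) by
        rw [hY]; trivial)
    choose w hw using fun y : {y // y ∈ Y} => Scheme.residue_surjective T p (f y.1)
    let ε := (a.stalkMap (closedPoint C)).hom
    have hε : ∀ z, i.hom.hom (ε z) = φ z := fun z => rfl
    have hmem : i.inv.hom x - ∑ y, ε (w y) * v y ∈ maximalIdeal _ := sub_mem_of_residue_eq _ (by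
      show P.residue (closedPoint C) (i.inv.hom x) = P.residue (closedPoint C) (∑ y, ε (w y) * v y)
      rw [← hf, ← Finset.sum_coe_sort Y, map_sum]
      refine Finset.sum_congr rfl fun y _ => ?_
      rw [map_mul, hv, ← hw, Algebra.smul_def]
      congr 1)
    have hS : ∀ y, φ (w y) ∈ S₀ := fun y => ⟨w y, rfl⟩
    refine ⟨fun c => ⟨∑ y with i.hom.hom (v y) = c, φ (w y), S₀.sum_mem fun y _ => hS y⟩, ?_⟩
    have h2 : i.hom.hom (i.inv.hom x - ∑ y, ε (w y) * v y) ∈ maximalIdeal C := fun hu' =>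
      hmem (by
        have := hu'.map i.inv.hom
        rwa [Iso.hom_inv_id_apply] at this)
    convert h2 using 1
    rw [map_sub, Iso.inv_hom_id_apply, map_sum]
    simp only [map_mul, hε]
    congr 1
    rw [← Finset.sum_fiberwise_of_maps_to (fun y _ => Finset.mem_image_of_mem (fun y => i.hom.hom (v y)) (Finset.mem_univ y))
      (fun y => φ (w y) * i.hom.hom (v y))]
    refine Finset.sum_congr rfl fun c _ => ?_
    rw [Finset.sum_mul]
    refine Finset.sum_congr rfl fun y hy => ?_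
    rw [(Finset.mem_filter.1 hy).2]
  obtain ⟨_, hS₀a, hιl⟩ := subring_artinian S₀ hS₀m hS₀inv B hB
  haveI := hS₀a
  haveI := hιl
  let S₁ : Subring C' := S₀.comap π
  have hπm : ∀ x, x ∈ maximalIdeal C' ↔ π x ∈ maximalIdeal C := fun x =>
    ⟨map_nonunit π x, fun h hx => h (hx.map π)⟩
  obtain ⟨_, hS₁a, hι'l⟩ : ∃ _ : IsLocalRing S₁, IsArtinianRing S₁ ∧ IsLocalHom S₁.subtype := by
    choose l hl using hπ
    refine subring_artinian S₁ (fun x hx => hS₀m _ ((hπm x).1 hx)) ?_ (B.image l) fun x => ?_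
    · intro x hx hxu
      obtain ⟨y, hy, hxy⟩ := hS₀inv (π x) hx (hxu.map π)
      refine ⟨↑hxu.unit⁻¹, ?_, hxu.mul_val_inv⟩
      show π _ ∈ S₀
      rwa [show π ↑hxu.unit⁻¹ = y from left_inv_eq_right_inv (a := π x) (by
        rw [← map_mul, hxu.val_inv_mul, map_one]) hxy]
    · obtain ⟨c, hc⟩ := hB (π x)
      refine ⟨fun d => ⟨l (c (π d) : C), by show π _ ∈ S₀; rw [hl]; exact (c (π d)).2⟩, ?_⟩
      rw [hπm, map_sub, map_sum, Finset.sum_image (fun p _ q _ h => by rw [← hl p, ← hl q, h])]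
      simpa only [map_mul, hl] using hc
  haveI := hS₁a
  haveI := hι'l
  let π₀ : S₁ →+* S₀ := (π.comp S₁.subtype).codRestrict S₀ fun x => x.2
  have hπ₀ : Function.Surjective π₀ := fun y => by
    obtain ⟨x, hx⟩ := hπ y
    exact ⟨⟨x, by show π x ∈ S₀; rw [hx]; exact y.2⟩, Subtype.ext hx⟩
  let φ₀ : T.presheaf.stalk p →+* S₀ := φ.codRestrict S₀ fun z => ⟨z, rfl⟩
  haveI : IsLocalHom φ₀ := ⟨fun z hz => (isUnit_map_iff φ z).1 (hz.map S₀.subtype)⟩
  let a₀ : Spec (CommRingCat.of S₀) ⟶ T := Spec.map (CommRingCat.ofHom φ₀) ≫ T.fromSpecStalk p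
  have ha₀ : Spec.map (CommRingCat.ofHom S₀.subtype) ≫ a₀ = a := by
    conv_rhs => rw [← hφa]
    rw [← Category.assoc, ← Spec.map_comp]
    rfl
  obtain ⟨hpt, hres⟩ := surjective_residueFieldMap p φ₀ (fun s => by
    obtain ⟨z, hz⟩ := s.2
    refine ⟨z, fun h => ?_⟩
    have h2 := (h.map S₀.subtype)
    refine (?_ : (s : C) - φ z ∈ maximalIdeal C) h2
    rw [← residue_eq_zero_iff, map_sub, sub_eq_zero]
    exact hz.symm) a₀ rfl
  let ψ : S.presheaf.stalk (b (closedPoint C')) →+* C' := (Scheme.stalkClosedPointTo b).hom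
  haveI : IsLocalHom ψ := Scheme.isLocalHom_stalkClosedPointTo' b
  haveI : IsLocalHom (π.comp ψ) := RingHom.isLocalHom_comp _ _
  obtain ⟨χ, hχ, hχg⟩ := factor S₀.subtype (b (closedPoint C')) (π.comp ψ) (a₀ ≫ g) (by
    rw [← Category.assoc, ha₀, ← he]
    conv_rhs => rw [← Scheme.Spec_stalkClosedPointTo_fromSpecStalk b, ← Category.assoc, ← Spec.map_comp]
    rfl)
  let ψ₀ : S.presheaf.stalk (b (closedPoint C')) →+* S₁ := ψ.codRestrict S₁ fun z => by
    show π (ψ z) ∈ S₀
    rw [← show S₀.subtype (χ z) = π (ψ z) from RingHom.congr_fun hχ z]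
    exact (χ z).2
  let b₀ : Spec (CommRingCat.of S₁) ⟶ S := Spec.map (CommRingCat.ofHom ψ₀) ≫ S.fromSpecStalk _
  have hb₀ : Spec.map (CommRingCat.ofHom S₁.subtype) ≫ b₀ = b := by
    conv_rhs => rw [← Scheme.Spec_stalkClosedPointTo_fromSpecStalk b]
    rw [← Category.assoc, ← Spec.map_comp]
    rfl
  have hcompat : Spec.map (CommRingCat.ofHom π₀) ≫ b₀ = a₀ ≫ g := by
    rw [← hχg, ← Category.assoc, ← Spec.map_comp]
    congr 2
    exact CommRingCat.hom_ext (RingHom.ext fun z => Subtype.ext (RingHom.congr_fun hχ z).symm)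
  obtain ⟨c₀, hc₀, hc₀g⟩ := hT S₀ S₁ π₀ hπ₀ a₀ b₀ hpt hres hcompat
  refine ⟨Spec.map (CommRingCat.ofHom S₁.subtype) ≫ c₀, ?_, ?_⟩
  · rw [← ha₀, ← hc₀, ← Category.assoc, ← Category.assoc, ← Spec.map_comp, ← Spec.map_comp]
    rfl
  · rw [Category.assoc, hc₀g, hb₀]

end Groth.Agent.VersalFin
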